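import Mathlib
import Cfsg.Agent.H30.Basics

/-! Sylow normalisers in `A₈`. -/

set_option autoImplicit false

namespace Cfsg.Agent.H50.AltEight

open Equiv Subgroup

/-- Shorthand for `A₈`. -/
abbrev A8 := ↥(alternatingGroup (Fin 8))

theorem card_A8 : Nat.card A8 = 20160 := by
  rw [nat_card_alternatingGroup, Nat.card_fin]; rfl

theorem isSimple_A8 : IsSimpleGroup A8 :=
  alternatingGroup.isSimpleGroup (by rw [Nat.card_fin]; norm_num)

theorem not_comm_A8 : ¬ IsMulCommutative A8 := by
  have := isSimple_A8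
  exact Cfsg.Agent.H30.not_comm_of_not_prime (by rw [card_A8]; norm_num)

/-- A proper subgroup of `A₈` has index at least eight. -/
theorem eight_le_index {L : Subgroup A8} (hL : L ≠ ⊤) : 8 ≤ L.index := by
  have := isSimple_A8
  have h := Cfsg.Agent.H30.two_mul_card_dvd_factorial not_comm_A8 L hL
  rw [card_A8] at h
  by_contra hlt
  have hle : Nat.factorial L.index ≤ Nat.factorial 7 := Nat.factorial_le (by omega)
  have := Nat.le_of_dvd (Nat.factorial_pos _) h
  have h7 : Nat.factorial 7 = 5040 := rfl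
  omega

/-- The centraliser in `S₈` of an element of prime order `p`, `p = 5, 7`. -/
theorem card_centralizer_perm {p : ℕ} (hp : p.Prime) (hp5 : 5 ≤ p) (hp8 : p ≤ 7)
    {σ : Perm (Fin 8)} (hσ : orderOf σ = p) :
    Nat.card (centralizer ({σ} : Set (Perm (Fin 8)))) = Nat.factorial (8 - p) * p := by
  obtain ⟨k, hk⟩ := Equiv.Perm.cycleType_prime_order (σ := σ) (hσ.symm ▸ hp)
  have hs := σ.sum_cycleType_le
  rw [hk, Multiset.sum_replicate, hσ, smul_eq_mul, Fintype.card_fin] at hs
  have hk0 : k = 0 := by nlinarith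
  subst hk0
  rw [Equiv.Perm.nat_card_centralizer, hk, hσ, Fintype.card_fin]
  simp

/-- The normaliser of a subgroup of order `p` in `A₈`: its order divides `(8-p)! * p * (p - 1)`. -/
theorem card_normalizer_dvd {p : ℕ} [hpf : Fact p.Prime] (hp5 : 5 ≤ p) (hp8 : p ≤ 7)
    {Q : Subgroup A8} (hQ : Nat.card Q = p) :
    Nat.card (normalizer (Q : Set A8)) ∣ Nat.factorial (8 - p) * p * (p - 1) := by
  have : IsCyclic Q := isCyclic_of_prime_card hQ
  obtain ⟨x, hxQ, hx⟩ : ∃ x : A8, x ∈ Q ∧ orderOf x = p := by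
    obtain ⟨y, hy⟩ := exists_prime_orderOf_dvd_card' (G := Q) p (dvd_of_eq hQ.symm)
    exact ⟨y, y.2, by rw [Subgroup.orderOf_coe, hy]⟩
  have hC : Nat.card (centralizer (Q : Set A8)) ∣ Nat.factorial (8 - p) * p := by
    rw [← card_centralizer_perm hpf.out hp5 hp8 (σ := (x : Perm (Fin 8)))
      (by rw [Subgroup.orderOf_coe, hx])]
    rw [Nat.card_congr (Subgroup.equivMapOfInjective (centralizer (Q : Set A8))
      (alternatingGroup (Fin 8)).subtype (alternatingGroup (Fin 8)).subtype_injective).toEquiv]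
    refine Subgroup.card_dvd_of_le ?_
    rintro _ ⟨c, hc, rfl⟩
    rw [Subgroup.mem_centralizer_singleton_iff]
    exact congrArg Subtype.val (Subgroup.mem_centralizer_iff.mp hc x hxQ).symm
  have hi := Cfsg.Agent.H30.relIndex_centralizer_dvd_card_mulAut Q
  rw [IsCyclic.card_mulAut, hQ, Nat.totient_prime hpf.out] at hi
  have hm := relIndex_mul_relIndex ⊥ (centralizer (Q : Set A8)) (normalizer (Q : Set A8)) bot_le
    (Subgroup.centralizer_le_normalizer _)
  rw [relIndex_bot_left, relIndex_bot_left] at hm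
  rw [← hm]
  exact Nat.mul_dvd_mul hC hi

theorem sylow_card {p : ℕ} [Fact p.Prime] {a : ℕ} (hm : 20160 = p * a) (hp : ¬ p ∣ a)
    (P : Sylow p A8) : Nat.card (P : Subgroup A8) = p := by
  simpa using Cfsg.Agent.H30.card_sylow_subgroup (a := 1) (m := a) P
    (by rw [card_A8, pow_one]; exact hm) hp

/-- Number of Sylow subgroups times normaliser order, for a subgroup of order `p`. -/
theorem exists_sylow_count {p : ℕ} [hpf : Fact p.Prime] {a : ℕ} (hm : 20160 = p * a) (hp : ¬ p ∣ a)
    {Q : Subgroup A8} (hQ : Nat.card Q = p) :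
    ∃ n : ℕ, n % p = 1 ∧ n * Nat.card (normalizer (Q : Set A8)) = 20160 := by
  obtain ⟨P, hP⟩ := (IsPGroup.of_card (p := p) (n := 1) (by rw [hQ, pow_one]) :
    IsPGroup p Q).exists_le_sylow
  have hPQ : Q = (P : Subgroup A8) :=
    Subgroup.eq_of_le_of_card_ge hP (by rw [hQ, sylow_card hm hp P])
  refine ⟨Nat.card (Sylow p A8), ?_, ?_⟩
  · have := card_sylow_modEq_one p A8
    rwa [Nat.ModEq, Nat.mod_eq_of_lt hpf.out.one_lt] at this
  · rw [hPQ, Cfsg.Agent.H30.card_sylow_mul_normalizer, card_A8]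

theorem card_normalizer_seven {Q : Subgroup A8} (hQ : Nat.card Q = 7) :
    Nat.card (normalizer (Q : Set A8)) ∣ 21 := by
  have : Fact (Nat.Prime 7) := ⟨by norm_num⟩
  have h := card_normalizer_dvd (p := 7) (by norm_num) le_rfl hQ
  obtain ⟨n, hn1, hn⟩ := exists_sylow_count (p := 7) (a := 2880) (by norm_num) (by norm_num) hQ
  have hall : ∀ d ∈ Nat.divisors 42, (20160 / d) % 7 = 1 → d ∣ 21 := by decide +kernel
  refine hall _ (Nat.mem_divisors.mpr ⟨h, by norm_num⟩) ?_
  rw [← hn, Nat.mul_div_cancel _ Nat.card_pos, hn1]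

theorem card_normalizer_five {Q : Subgroup A8} (hQ : Nat.card Q = 5) :
    Nat.card (normalizer (Q : Set A8)) ∣ 60 := by
  have : Fact (Nat.Prime 5) := ⟨by norm_num⟩
  have h := card_normalizer_dvd (p := 5) le_rfl (by norm_num) hQ
  obtain ⟨n, hn1, hn⟩ := exists_sylow_count (p := 5) (a := 4032) (by norm_num) (by norm_num) hQ
  have hall : ∀ d ∈ Nat.divisors 120, (20160 / d) % 5 = 1 → d ∣ 60 := by decide +kernel
  refine hall _ (Nat.mem_divisors.mpr ⟨h, by norm_num⟩) ?_
  rw [← hn, Nat.mul_div_cancel _ Nat.card_pos, hn1]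

/-- Normalisers pull back along injective maps. -/
theorem card_normalizer_dvd_map {T G : Type*} [Group T] [Group G] [Finite G] (f : T →* G)
    (hf : Function.Injective f) (P : Subgroup T) :
    Nat.card (normalizer (P : Set T)) ∣ Nat.card (normalizer ((P.map f : Subgroup G) : Set G)) := by
  rw [Nat.card_congr (Subgroup.equivMapOfInjective (normalizer (P : Set T)) f hf).toEquiv]
  exact Subgroup.card_dvd_of_le (Subgroup.le_normalizer_map f)

end Cfsg.Agent.H50.AltEight
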