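import Cfsg.Agent.S0496
import Cfsg.Agent.H50.AltEight.Sylow

/-! Orders of non-abelian simple subgroups of `A₈`. -/

set_option autoImplicit false

namespace Cfsg.Agent.H50.AltEight

open Equiv Subgroup

/-- `Perm (Fin 8)`-version: there is no simple subgroup of order `1344` consisting of even
permutations. -/
theorem false_of_1344 (L : Subgroup (Perm (Fin 8))) [IsSimpleGroup L]
    (hA : L ≤ alternatingGroup (Fin 8)) (hL : Nat.card L = 1344) : False := by
  classical
  have : Fact (Nat.Prime 2) := ⟨Nat.prime_two⟩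
  have : Fact (Nat.Prime 7) := ⟨by norm_num⟩
  have hnc : ¬ IsMulCommutative L :=
    Cfsg.Agent.H30.not_comm_of_not_prime (by rw [hL]; norm_num)
  have hS8 : Nat.card (Perm (Fin 8)) = 40320 := by rw [Nat.card_perm, Nat.card_fin]; rfl
  -- subgroups of small index
  have hidx : ∀ I : Subgroup L, I ≠ ⊤ → 8 ≤ I.index := by
    intro I hI
    by_contra hlt
    have h := Cfsg.Agent.H30.two_mul_card_dvd_factorial hnc I hI
    rw [hL] at h
    have hall : ∀ i < 8, ¬ 2 * 1344 ∣ Nat.factorial i := by decide +kernel
    exact hall _ (by omega) h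
  -- a Sylow 2-subgroup normalised by a transposition
  let S₀ : Sylow 2 L := default
  let S : Subgroup (Perm (Fin 8)) := (S₀ : Subgroup L).map L.subtype
  have hScard : Nat.card S = 64 := by
    rw [Subgroup.card_map_of_injective L.subtype_injective]
    simpa using Cfsg.Agent.H30.card_sylow_subgroup (a := 6) (m := 21) S₀ (by rw [hL]; norm_num)
      (by norm_num)
  obtain ⟨Sig, hSig⟩ := (IsPGroup.of_card (p := 2) (n := 6) (by rw [hScard]; norm_num) :
    IsPGroup 2 S).exists_le_sylow
  have hSigcard : Nat.card (Sig : Subgroup (Perm (Fin 8))) = 128 := by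
    simpa using Cfsg.Agent.H30.card_sylow_subgroup (a := 7) (m := 315) Sig
      (by rw [hS8]; norm_num) (by norm_num)
  obtain ⟨a, b, hab, hτ⟩ : ∃ a b : Fin 8, a ≠ b ∧ swap a b ∈ (Sig : Subgroup (Perm (Fin 8))) := by
    have hz : IsPGroup 2 (Subgroup.zpowers (swap (0 : Fin 8) 1)) := by
      refine IsPGroup.of_card (n := 1) ?_
      rw [Nat.card_zpowers, pow_one]
      exact orderOf_eq_prime (by rw [pow_two, swap_mul_self]) (by decide)
    obtain ⟨Sig₀, hSig₀⟩ := hz.exists_le_sylow
    obtain ⟨g, hg⟩ := MulAction.exists_smul_eq (Perm (Fin 8)) Sig₀ Sig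
    refine ⟨g 0, g 1, fun h => absurd (g.injective h) (by decide), ?_⟩
    rw [← hg, Sylow.coe_subgroup_smul]
    refine ⟨swap 0 1, hSig₀ (Subgroup.mem_zpowers _), ?_⟩
    show g * swap 0 1 * g⁻¹ = swap (g 0) (g 1)
    rw [Equiv.mul_swap_eq_swap_mul, mul_inv_cancel_right]
  set τ := swap a b with hτdef
  have hSn : ∀ y ∈ S, τ * y * τ⁻¹ ∈ S := by
    intro y hy
    have hi : (S.subgroupOf (Sig : Subgroup (Perm (Fin 8)))).index = 2 := by
      have h := Subgroup.index_mul_card (S.subgroupOf (Sig : Subgroup (Perm (Fin 8))))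
      rw [Nat.card_congr (Subgroup.subgroupOfEquivOfLe hSig).toEquiv, hScard, hSigcard] at h
      omega
    have hn := Subgroup.normal_of_index_eq_two hi
    exact Subgroup.mem_subgroupOf.mp
      (hn.conj_mem ⟨y, hSig hy⟩ (Subgroup.mem_subgroupOf.mpr hy) ⟨τ, hτ⟩)
  -- the conjugate by `τ` equals `L`
  set M := L.map (MulAut.conj τ).toMonoidHom with hM
  have hSM : S ≤ M := by
    intro y hy
    refine ⟨τ⁻¹ * y * τ, ?_, by simp [mul_assoc]⟩
    have h := hSn y hy
    rw [show τ⁻¹ = τ from Equiv.swap_inv a b] at h ⊢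
    exact (Subgroup.map_subtype_le _) h
  have hML : M = L := by
    by_contra hne
    have hMA : M ≤ alternatingGroup (Fin 8) := by
      rintro _ ⟨l, hl, rfl⟩
      exact (inferInstance : (alternatingGroup (Fin 8)).Normal).conj_mem l (hA hl) τ
    have hMcard : Nat.card M = 1344 := by
      rw [hM, Subgroup.card_map_of_injective (MulEquiv.injective _), hL]
    have hI : (L ⊓ M).subgroupOf L ≠ ⊤ := by
      intro htop
      have hle : L ≤ M := (Subgroup.subgroupOf_eq_top.mp htop).trans inf_le_right
      exact hne (Subgroup.eq_of_le_of_card_ge hle (by rw [hL, hMcard])).symm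
    have h8 := hidx _ hI
    have hcard : Nat.card ↥(L ⊓ M) * ((L ⊓ M).subgroupOf L).index = 1344 := by
      rw [← Nat.card_congr (Subgroup.subgroupOfEquivOfLe (inf_le_left : L ⊓ M ≤ L)).toEquiv,
        Subgroup.card_mul_index, hL]
    have h64 : 64 ∣ Nat.card ↥(L ⊓ M) := hScard ▸ Subgroup.card_dvd_of_le
      (le_inf (Subgroup.map_subtype_le _) hSM)
    -- product bound inside `A₈`
    have hprod : L.relIndex M * Nat.card ↥(L ⊓ M) = 1344 := by
      rw [← Subgroup.inf_relIndex_right, ← relIndex_bot_left (L ⊓ M), mul_comm,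
        relIndex_mul_relIndex ⊥ _ _ bot_le inf_le_right, relIndex_bot_left, hMcard]
    have hle15 : L.relIndex M ≤ 15 := by
      refine (Subgroup.relIndex_le_of_le_right hMA ?_).trans (le_of_eq ?_)
      · exact Subgroup.index_ne_zero_of_finite
      · have h := relIndex_mul_relIndex ⊥ L (alternatingGroup (Fin 8)) bot_le hA
        rw [relIndex_bot_left, relIndex_bot_left, hL, nat_card_alternatingGroup, Nat.card_fin,
          show Nat.factorial 8 / 2 = 20160 from rfl] at h
        omega
    obtain ⟨k, hk⟩ := h64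
    rw [hk] at hprod hcard
    have hk1 : L.relIndex M * k = 21 := by linarith
    have hk2 : k * ((L ⊓ M).subgroupOf L).index = 21 := by linarith
    have hkd : k ∈ Nat.divisors 21 := Nat.mem_divisors.mpr ⟨⟨_, hk2.symm⟩, by norm_num⟩
    rw [show Nat.divisors 21 = {1, 3, 7, 21} from rfl] at hkd
    simp only [Finset.mem_insert, Finset.mem_singleton] at hkd
    rcases hkd with rfl | rfl | rfl | rfl <;> omega
  -- hence all transpositions normalise `L`
  let N := Subgroup.normalizer (L : Set (Perm (Fin 8)))
  have hτN : τ ∈ N := by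
    rw [Subgroup.mem_normalizer_iff]
    intro l
    constructor
    · intro hl; rw [← hML]; exact ⟨l, hl, rfl⟩
    · intro hl
      rw [← hML] at hl
      obtain ⟨l', hl', he⟩ := hl
      have : l' = l := by simpa using he
      exact this ▸ hl'
  obtain ⟨x, hx⟩ := exists_prime_orderOf_dvd_card' (G := L) 7 (by rw [hL]; norm_num)
  have hxo : orderOf (x : Perm (Fin 8)) = 7 := by rw [Subgroup.orderOf_coe, hx]
  obtain ⟨k, hk⟩ := Equiv.Perm.cycleType_prime_order (σ := (x : Perm (Fin 8)))
    (hxo.symm ▸ (by norm_num : Nat.Prime 7))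
  have hsum := (x : Perm (Fin 8)).sum_cycleType_le
  rw [hk, Multiset.sum_replicate, hxo, smul_eq_mul, Fintype.card_fin] at hsum
  have hk0 : k = 0 := by omega
  subst hk0
  have hcyc : (x : Perm (Fin 8)).IsCycle := by
    rw [← Equiv.Perm.card_cycleType_eq_one, hk]; rfl
  have hsupp : (x : Perm (Fin 8)).support.card = 7 := by
    rw [← Equiv.Perm.sum_cycleType, hk, hxo]; rfl
  obtain ⟨c, hc⟩ := Finset.card_eq_one.mp (show ((x : Perm (Fin 8)).supportᶜ).card = 1 by
    rw [Finset.card_compl, hsupp]; rfl)
  have hmoved : ∀ d : Fin 8, d ≠ c → (x : Perm (Fin 8)) d ≠ d := by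
    intro d hd h
    have : d ∈ (x : Perm (Fin 8)).supportᶜ := Finset.mem_compl.mpr (by simp [h])
    rw [hc, Finset.mem_singleton] at this
    exact hd this
  have hreach : ∀ d e : Fin 8, d ≠ c → e ≠ c → ∃ i : ℤ, ((x : Perm (Fin 8)) ^ i) d = e := fun d e hd he =>
    hcyc.exists_zpow_eq (hmoved d hd) (hmoved e he)
  -- transitivity
  have htrans : ∀ d : Fin 8, ∃ g ∈ L, g c = d := by
    by_cases hfix : ∀ g ∈ L, g c = c
    · exfalso
      have hle : L ≤ MulAction.stabilizer (Perm (Fin 8)) c := fun g hg => hfix g hg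
      have h1 := Subgroup.card_dvd_of_le hle
      have h2 := Subgroup.card_mul_index (MulAction.stabilizer (Perm (Fin 8)) c)
      rw [MulAction.index_stabilizer_of_transitive, Nat.card_fin, hS8] at h2
      rw [hL, show Nat.card (MulAction.stabilizer (Perm (Fin 8)) c) = 5040 by omega] at h1
      omega
    · push Not at hfix
      obtain ⟨g, hg, hgc⟩ := hfix
      intro d
      rcases eq_or_ne d c with rfl | hd
      · exact ⟨1, L.one_mem, rfl⟩
      · obtain ⟨i, hi⟩ := hreach (g c) d hgc hd
        exact ⟨(x : Perm (Fin 8)) ^ i * g, L.mul_mem (L.zpow_mem x.2 i) hg, hi⟩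
  obtain ⟨g, hgL, hgc⟩ := htrans a
  have hstar : ∀ d : Fin 8, d ≠ a → swap a d ∈ N := by
    intro d hd
    obtain ⟨i, hi⟩ := hreach (g⁻¹ b) (g⁻¹ d)
      (fun h => hab (by rw [← hgc, ← h]; simp))
      (fun h => hd (by rw [← hgc, ← h]; simp))
    set y := g * (x : Perm (Fin 8)) ^ i * g⁻¹ with hy
    have hyL : y ∈ L := L.mul_mem (L.mul_mem hgL (L.zpow_mem x.2 i)) (L.inv_mem hgL)
    have hyN : y ∈ N := Subgroup.le_normalizer hyL
    have hxc : (x : Perm (Fin 8)) c = c := by
      by_contra h
      have : c ∈ (x : Perm (Fin 8)).supportᶜ := hc ▸ Finset.mem_singleton_self c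
      exact Finset.mem_compl.mp this (Equiv.Perm.mem_support.mpr h)
    have hya : y a = a := by
      have hgi : g⁻¹ a = c := by rw [← hgc]; simp
      rw [hy, Equiv.Perm.mul_apply, Equiv.Perm.mul_apply, hgi,
        Equiv.Perm.zpow_apply_eq_self_of_apply_eq_self hxc i, hgc]
    have hyb : y b = d := by
      rw [hy, Equiv.Perm.mul_apply, Equiv.Perm.mul_apply, hi]; simp
    have := N.mul_mem (N.mul_mem hyN hτN) (N.inv_mem hyN)
    rwa [hτdef, Equiv.mul_swap_eq_swap_mul, mul_inv_cancel_right, hya, hyb] at this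
  have hswap : ∀ σ : Perm (Fin 8), σ.IsSwap → σ ∈ N := by
    rintro σ ⟨u, v, huv, rfl⟩
    rcases eq_or_ne u a with rfl | hu
    · exact hstar v (Ne.symm huv)
    rcases eq_or_ne v a with rfl | hv
    · rw [Equiv.swap_comm]; exact hstar u hu
    have h := N.mul_mem (N.mul_mem (hstar u hu) (hstar v hv)) (N.inv_mem (hstar u hu))
    rwa [Equiv.mul_swap_eq_swap_mul, mul_inv_cancel_right, swap_apply_left,
      swap_apply_of_ne_of_ne hv (Ne.symm huv)] at h
  have hNtop : N = ⊤ := by
    rw [eq_top_iff, ← Equiv.Perm.closure_isSwap, Subgroup.closure_le]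
    exact hswap
  have hLn : L.Normal := Subgroup.normalizer_eq_top_iff.mp hNtop
  let L8 : Subgroup A8 := L.subgroupOf (alternatingGroup (Fin 8))
  have hL8 : Nat.card L8 = 1344 := by
    rw [Nat.card_congr (Subgroup.subgroupOfEquivOfLe hA).toEquiv, hL]
  have hn8 : L8.Normal := hLn.comap _
  have := isSimple_A8
  rcases IsSimpleGroup.eq_bot_or_eq_top_of_normal L8 hn8 with h | h
  · rw [h, Subgroup.card_bot] at hL8
    omega
  · rw [h, Subgroup.card_top, card_A8] at hL8
    omega

/-- The order of a non-abelian simple group embedded in `A₈`. -/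
theorem card_simple {T : Type*} [Group T] [Finite T] [IsSimpleGroup T]
    (hT : ¬ IsMulCommutative T) (f : T →* A8) (hf : Function.Injective f) :
    Nat.card T = 60 ∨ Nat.card T = 168 ∨ Nat.card T = 360 ∨ Nat.card T = 2520 ∨
      Nat.card T = 20160 := by
  have hd : Nat.card T ∣ 20160 := card_A8 ▸ Subgroup.card_dvd_of_injective f hf
  have hmap : ∀ P : Subgroup T, Nat.card (P.map f) = Nat.card P := fun P =>
    (Nat.card_congr (Subgroup.equivMapOfInjective P f hf).toEquiv).symm
  by_cases hle : Nat.card T ≤ 1092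
  · rcases Cfsg.Agent.S0496.result hT hle with h | h | h | h | h | h <;> rw [h] at hd ⊢ <;>
      try omega
    -- 504
    exfalso
    have : Fact (Nat.Prime 7) := ⟨by norm_num⟩
    let P : Sylow 7 T := default
    have hP : Nat.card (P : Subgroup T) = 7 := by
      simpa using Cfsg.Agent.H30.card_sylow_subgroup (a := 1) (m := 72) P (by rw [h]; norm_num)
        (by norm_num)
    obtain ⟨e, c, -, he, hN, -⟩ := Cfsg.Agent.H30.exists_automizer_of_prime_order hT 7 P hP
    have h21 : Nat.card (normalizer ((P : Subgroup T) : Set T)) ∣ 21 :=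
      (card_normalizer_dvd_map f hf P).trans (card_normalizer_seven (by rw [hmap, hP]))
    have hmul := Cfsg.Agent.H30.card_sylow_mul_normalizer 7 P
    have hmod := card_sylow_modEq_one 7 T
    rw [h] at hmul
    rw [hN] at h21 hmul
    have hall : ∀ d ∈ Nat.divisors 21, d ∣ 504 → (504 / d) % 7 = 1 → d ≤ 7 := by decide +kernel
    have hd21 := hall _ (Nat.mem_divisors.mpr ⟨h21, by norm_num⟩) ⟨_, by rw [mul_comm]; exact hmul.symm⟩
      (by
        rw [← hmul, Nat.mul_div_cancel]
        · exact hmod
        · rcases Nat.eq_zero_or_pos (7 * c * e) with h0 | h0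
          · rw [h0, mul_zero] at hmul; norm_num at hmul
          · exact h0)
    rcases Nat.eq_zero_or_pos c with hc0 | hc0
    · subst hc0; simp at hmul
    · have : 7 * 1 * 2 ≤ 7 * c * e := Nat.mul_le_mul (Nat.mul_le_mul le_rfl hc0) he
      omega
  · push Not at hle
    by_cases h7 : 7 ∣ Nat.card T
    · have : Fact (Nat.Prime 7) := ⟨by norm_num⟩
      let P : Sylow 7 T := default
      have hP : Nat.card (P : Subgroup T) = 7 := by
        obtain ⟨k, hk⟩ := IsPGroup.iff_card.mp P.2
        have hdv : Nat.card (P : Subgroup T) ∣ 20160 := (card_subgroup_dvd_card _).trans hd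
        rw [hk] at hdv ⊢
        rcases k with _ | _ | k
        · have := P.ne_bot_of_dvd_card h7
          exact absurd (Subgroup.card_eq_one.mp (by simpa using hk)) this
        · rfl
        · exfalso
          have : 7 ^ 2 ∣ 20160 := (pow_dvd_pow 7 (by omega)).trans hdv
          norm_num at this
      obtain ⟨e, c, -, he, hN, -⟩ := Cfsg.Agent.H30.exists_automizer_of_prime_order hT 7 P hP
      have h21 : Nat.card (normalizer ((P : Subgroup T) : Set T)) ∣ 21 :=
        (card_normalizer_dvd_map f hf P).trans (card_normalizer_seven (by rw [hmap, hP]))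
      have hmul := Cfsg.Agent.H30.card_sylow_mul_normalizer 7 P
      have hmod : Nat.card (Sylow 7 T) % 7 = 1 := card_sylow_modEq_one 7 T
      have h21' : Nat.card (normalizer ((P : Subgroup T) : Set T)) = 21 := by
        have hall : ∀ d ∈ Nat.divisors 21, 7 < d → d = 21 := by decide +kernel
        refine hall _ (Nat.mem_divisors.mpr ⟨h21, by norm_num⟩) ?_
        have hpos : 0 < Nat.card (normalizer ((P : Subgroup T) : Set T)) := Nat.card_pos
        rw [hN] at hpos ⊢
        rcases Nat.eq_zero_or_pos c with hc0 | hc0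
        · subst hc0; simp at hpos
        · calc 7 < 7 * 1 * 2 := by norm_num
            _ ≤ 7 * c * e := Nat.mul_le_mul (Nat.mul_le_mul le_rfl hc0) he
      rw [h21'] at hmul
      have hn : Nat.card (Sylow 7 T) ∣ 960 := by
        have h' : Nat.card (Sylow 7 T) * 21 ∣ 960 * 21 := hmul ▸ hd
        exact Nat.dvd_of_mul_dvd_mul_right (by norm_num) h'
      have hall : ∀ n ∈ Nat.divisors 960, n % 7 = 1 → 1092 < n * 21 →
          n * 21 = 1344 ∨ n * 21 = 2520 ∨ n * 21 = 20160 := by decide +kernel
      rcases hall _ (Nat.mem_divisors.mpr ⟨hn, by norm_num⟩) hmod (hmul ▸ hle) with h | h | h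
      · exfalso
        let g : T →* Perm (Fin 8) := (alternatingGroup (Fin 8)).subtype.comp f
        have hg : Function.Injective g := Subtype.val_injective.comp hf
        have : Nontrivial g.range := Finite.one_lt_card_iff_nontrivial.mp (by
          rw [← Nat.card_congr (MonoidHom.ofInjective hg).toEquiv]; omega)
        have : IsSimpleGroup g.range := IsSimpleGroup.isSimpleGroup_of_surjective g.rangeRestrict
          g.rangeRestrict_surjective
        refine false_of_1344 g.range ?_ ?_
        · rintro _ ⟨t, rfl⟩; exact (f t).2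
        · rw [← Nat.card_congr (MonoidHom.ofInjective hg).toEquiv, ← hmul, h]
      · omega
      · omega
    · have hall : ∀ d ∈ Nat.divisors 20160, ¬ 7 ∣ d → 1092 < d → d = 1440 ∨ d = 2880 := by
        decide +kernel
      exfalso
      rcases hall _ (Nat.mem_divisors.mpr ⟨hd, by norm_num⟩) h7 hle with h | h
      · -- 1440
        have : Fact (Nat.Prime 5) := ⟨by norm_num⟩
        let P : Sylow 5 T := default
        have hP : Nat.card (P : Subgroup T) = 5 := by
          simpa using Cfsg.Agent.H30.card_sylow_subgroup (a := 1) (m := 288) P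
            (by rw [h]; norm_num) (by norm_num)
        obtain ⟨e, c, he4, he, hN, -⟩ := Cfsg.Agent.H30.exists_automizer_of_prime_order hT 5 P hP
        have h60 : Nat.card (normalizer ((P : Subgroup T) : Set T)) ∣ 60 :=
          (card_normalizer_dvd_map f hf P).trans (card_normalizer_five (by rw [hmap, hP]))
        have hmul := Cfsg.Agent.H30.card_sylow_mul_normalizer 5 P
        have hfac := Cfsg.Agent.H30.two_mul_card_dvd_factorial_sylow hT 5 (by rw [h]; norm_num)
        have hmod : Nat.card (Sylow 5 T) % 5 = 1 := card_sylow_modEq_one 5 T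
        rw [h] at hmul hfac
        have he2 : 2 ∣ e := by
          have hall4 : ∀ e ∈ Nat.divisors 4, 1 < e → 2 ∣ e := by decide +kernel
          exact hall4 e (Nat.mem_divisors.mpr ⟨he4, by norm_num⟩) he
        have hev : 2 ∣ Nat.card (normalizer ((P : Subgroup T) : Set T)) :=
          hN ▸ he2.mul_left _
        have hn : 1440 / Nat.card (normalizer ((P : Subgroup T) : Set T)) = Nat.card (Sylow 5 T) := by
          rw [← hmul, Nat.mul_div_cancel _ Nat.card_pos]
        have hall2 : ∀ d ∈ Nat.divisors 60, d ∣ 1440 → (1440 / d) % 5 = 1 → 2 ∣ d → False := by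
          decide +kernel
        exact hall2 _ (Nat.mem_divisors.mpr ⟨h60, by norm_num⟩)
          ⟨_, by rw [mul_comm]; exact hmul.symm⟩ (by rw [hn]; exact hmod) hev
      · -- 2880
        have hne : f.range ≠ ⊤ := by
          intro ht
          have := congrArg (fun K : Subgroup A8 => Nat.card K) ht
          simp only [← Nat.card_congr (MonoidHom.ofInjective hf).toEquiv, h, Subgroup.card_top,
            card_A8] at this
          omega
        have h8 := eight_le_index hne
        have := Subgroup.index_mul_card f.range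
        rw [← Nat.card_congr (MonoidHom.ofInjective hf).toEquiv, h, card_A8] at this
        omega

end Cfsg.Agent.H50.AltEight
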