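import Cfsg.Prelude.Def_Solvable
import Cfsg.Agent.H32.Basic
import Cfsg.Agent.H37.MinimalNormal
import Cfsg.Agent.H40.PCore
import Cfsg.Agent.H50.AltEight.Orders

/-! Subgroups of `A₈` without solvable normal subgroups have a simple normal subgroup with
trivial centraliser. -/

set_option autoImplicit false

namespace Cfsg.Agent.H50.AltEight

open Subgroup

variable {H : Type*} [Group H] [Finite H]

omit [Finite H] in
theorem le_pPrimeCore {p : ℕ} {N : Subgroup H} (hN : N.Normal) (h : (Nat.card N).Coprime p) :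
    N ≤ Cfsg.pPrimeCore p H :=
  le_sSup ⟨hN, h⟩

/-- A nontrivial normal subgroup contains a simple non-abelian normal subgroup. -/
theorem exists_simple_normal (f : H →* A8) (hf : Function.Injective f)
    (hO : Cfsg.pPrimeCore 2 H = ⊥) (hO2 : Cfsg.pCore 2 H = ⊥)
    (C : Subgroup H) [hC : C.Normal] (hC1 : C ≠ ⊥) :
    ∃ T : Subgroup H, T ≤ C ∧ T.Normal ∧ IsSimpleGroup T ∧ ¬ IsMulCommutative T := by
  obtain ⟨N, ⟨hNn, hN1, hNmin⟩, hNC⟩ := Cfsg.Agent.H32.exists_minNormal_le C hC hC1
  obtain ⟨T, s, hTs, hs, hind, hsup⟩ := Cfsg.Agent.H37.minimalNormal_structure N hN1 hNmin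
  obtain ⟨hTn, hTsimple, -⟩ := hs T hTs
  have hcard : ∀ K ∈ s, Nat.card K = Nat.card T := fun K hK => by
    obtain ⟨-, -, h, rfl⟩ := hs K hK
    exact Subgroup.card_map_of_injective (MulEquiv.injective _)
  -- `T` is not abelian
  have hTna : ¬ IsMulCommutative T := by
    intro hc
    have := hTsimple
    let _ : CommGroup T := { (inferInstance : Group T) with mul_comm := fun a b => hc.is_comm.comm a b }
    have hp : (Nat.card T).Prime := CommGroup.is_simple_iff_prime_card.mp hTsimple
    set p := Nat.card T with hpdef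
    have : Fact p.Prime := ⟨hp⟩
    have htop : (⊤ : Subgroup N) ≤ Cfsg.pCore p N := by
      rw [← hsup]
      refine iSup_le fun K => ?_
      exact Cfsg.Agent.H40.le_pCore (hs K K.2).1
        (IsPGroup.of_card (n := 1) (by rw [hcard K K.2, pow_one]))
    have hNp : IsPGroup p N :=
      (((Cfsg.Agent.H40.isPGroup_pCore p N).to_le htop).of_equiv Subgroup.topEquiv)
    rcases eq_or_ne p 2 with h2 | h2
    · rw [h2] at hNp
      exact hN1 (le_bot_iff.mp (hO2 ▸ Cfsg.Agent.H40.le_pCore hNn hNp))
    · obtain ⟨k, hk⟩ := IsPGroup.iff_card.mp hNp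
      refine hN1 (le_bot_iff.mp (hO ▸ le_pPrimeCore hNn ?_))
      rw [hk]
      exact ((Nat.coprime_primes hp Nat.prime_two).mpr h2).pow_left k
  -- only one factor
  by_cases hone : ∀ K ∈ s, K = T
  · have hTtop : T = ⊤ := eq_top_iff.mpr (hsup ▸ iSup_le fun K => (hone K K.2).le)
    subst hTtop
    have := hTsimple
    have : Nontrivial N := (Subgroup.nontrivial_iff_ne_bot N).mpr hN1
    have hsimp : IsSimpleGroup N :=
      IsSimpleGroup.isSimpleGroup_of_surjective (Subgroup.topEquiv : (⊤ : Subgroup N) ≃* N).toMonoidHom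
        (MulEquiv.surjective _)
    refine ⟨N, hNC, hNn, hsimp, fun hc => hTna ⟨⟨fun a b => Subtype.ext ?_⟩⟩⟩
    exact hc.is_comm.comm (a : N) b
  · exfalso
    push Not at hone
    obtain ⟨K, hK, hKT⟩ := hone
    have hKn := (hs K hK).1
    have hdisj : Disjoint T K := by
      have := hind.pairwiseDisjoint (i := (⟨T, hTs⟩ : s)) (j := ⟨K, hK⟩)
        (fun h => hKT (congrArg Subtype.val h).symm)
      exact this
    have hmul := Cfsg.Agent.H32.card_sup_mul_card_inf T K
    rw [hdisj.eq_bot, Subgroup.card_bot, mul_one, hcard K hK] at hmul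
    let g : N →* A8 := f.comp N.subtype
    have hg : Function.Injective g := hf.comp N.subtype_injective
    have hdvd : Nat.card T * Nat.card T ∣ 20160 := by
      rw [← hmul, ← card_A8]
      exact (card_subgroup_dvd_card (T ⊔ K)).trans (Subgroup.card_dvd_of_injective g hg)
    have := hTsimple
    rcases card_simple hTna (g.comp T.subtype) (hg.comp T.subtype_injective) with
      h | h | h | h | h <;> rw [h] at hdvd <;> norm_num at hdvd

/-- There is a simple normal subgroup with trivial centraliser. -/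
theorem exists_simple_normal_centralizer (f : H →* A8) (hf : Function.Injective f) [Nontrivial H]
    (hO : Cfsg.pPrimeCore 2 H = ⊥) (hO2 : Cfsg.pCore 2 H = ⊥) :
    ∃ T : Subgroup H, T.Normal ∧ IsSimpleGroup T ∧ ¬ IsMulCommutative T ∧
      Subgroup.centralizer (T : Set H) = ⊥ := by
  obtain ⟨T, -, hTn, hTs, hTna⟩ := exists_simple_normal f hf hO hO2 ⊤ top_ne_bot
  refine ⟨T, hTn, hTs, hTna, ?_⟩
  by_contra hC
  have hCn : (centralizer (T : Set H)).Normal := Subgroup.normal_centralizer
  obtain ⟨U, hUC, hUn, hUs, hUna⟩ := exists_simple_normal f hf hO hO2 _ hC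
  have hinf : T ⊓ U = ⊥ := by
    rcases hTs.eq_bot_or_eq_top_of_normal ((U).subgroupOf T) (hUn.comap _) with h | h
    · rw [Subgroup.subgroupOf_eq_bot, disjoint_iff] at h
      rw [inf_comm]; exact h
    · exfalso
      apply hTna
      have hle : T ≤ centralizer (T : Set H) := (Subgroup.subgroupOf_eq_top.mp h).trans hUC
      exact ⟨⟨fun a b => Subtype.ext (Subgroup.mem_centralizer_iff.mp (hle b.2) a a.2)⟩⟩
  have hmul := Cfsg.Agent.H32.card_sup_mul_card_inf T U
  rw [hinf, Subgroup.card_bot, mul_one] at hmul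
  have hdvd : Nat.card T * Nat.card U ∣ 20160 := by
    rw [← hmul, ← card_A8]
    exact (card_subgroup_dvd_card (T ⊔ U)).trans (Subgroup.card_dvd_of_injective f hf)
  have hTU : Nat.card T * Nat.card U = 10080 := by
    rcases card_simple hTna (f.comp T.subtype) (hf.comp T.subtype_injective) with
      h1 | h1 | h1 | h1 | h1 <;>
    rcases card_simple hUna (f.comp U.subtype) (hf.comp U.subtype_injective) with
      h2 | h2 | h2 | h2 | h2 <;> rw [h1, h2] at hdvd ⊢ <;> omega
  let L : Subgroup A8 := (T ⊔ U).map f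
  have hL : Nat.card L = 10080 := by
    rw [← Nat.card_congr (Subgroup.equivMapOfInjective (T ⊔ U) f hf).toEquiv, hmul, hTU]
  have hne : L ≠ ⊤ := fun h => by
    rw [h, Subgroup.card_top, card_A8] at hL; omega
  have h8 := eight_le_index hne
  have := Subgroup.index_mul_card L
  rw [hL, card_A8] at this
  omega

end Cfsg.Agent.H50.AltEight
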