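import Cfsg.Agent.S0494
import Cfsg.Agent.S0495
import Cfsg.Agent.S0497
import Cfsg.Agent.H1.PSLSimple
import Cfsg.Agent.H1.SmallIso
import Cfsg.Agent.H50.AltEight.Structure

/-! The subgroups of `A₈` without solvable normal subgroups. -/

set_option autoImplicit false

namespace Cfsg.Agent.H50.AltEight

open Subgroup

/-- `GL₃(2)` is simple of order `168`. -/
theorem gl_three_two : IsSimpleGroup (GL (Fin 3) (ZMod 2)) ∧ Nat.card (GL (Fin 3) (ZMod 2)) = 168 := by
  have hc : Nat.card (GL (Fin 3) (ZMod 2)) = 168 := by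
    rw [Matrix.card_GL_field, Fin.prod_univ_three, ZMod.card]; rfl
  refine ⟨?_, hc⟩
  have hone : ∀ r : ZMod 2, r ≠ 0 → r = 1 := by decide
  let ι : Matrix.SpecialLinearGroup (Fin 3) (ZMod 2) →* GL (Fin 3) (ZMod 2) :=
    Matrix.SpecialLinearGroup.toGL
  have hιs : Function.Surjective ι := fun g =>
    ⟨⟨(g : Matrix (Fin 3) (Fin 3) (ZMod 2)), hone _ (g.isUnit.map Matrix.detMonoidHom).ne_zero⟩,
      Units.ext rfl⟩
  have hιi : Function.Injective ι := fun a b h => Subtype.ext (congrArg Units.val h)
  have hcen : Subgroup.center (Matrix.SpecialLinearGroup (Fin 3) (ZMod 2)) = ⊥ := by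
    rw [eq_bot_iff]
    intro A hA
    rw [Matrix.SpecialLinearGroup.mem_center_iff] at hA
    obtain ⟨r, hr, hA⟩ := hA
    have hr1 : r = 1 := (show ∀ r : ZMod 2, r ^ 3 = 1 → r = 1 by decide) r (by simpa using hr)
    rw [Subgroup.mem_bot]
    apply Subtype.ext
    rw [← hA, hr1, map_one]
    rfl
  have := Cfsg.Agent.H1.isSimpleGroup_PSL_of_three_le (F := ZMod 2) 3 le_rfl
  have e : GL (Fin 3) (ZMod 2) ≃* Matrix.ProjectiveSpecialLinearGroup (Fin 3) (ZMod 2) :=
    (MulEquiv.ofBijective ι ⟨hιi, hιs⟩).symm.trans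
      ((QuotientGroup.quotientBot.symm).trans (QuotientGroup.quotientMulEquivOfEq hcen.symm))
  have : Nontrivial (GL (Fin 3) (ZMod 2)) := e.toEquiv.nontrivial
  exact IsSimpleGroup.isSimpleGroup_of_surjective e.symm.toMonoidHom e.symm.surjective

variable {H : Type*} [Group H] [Finite H]

/-- A subgroup of the same order is everything. -/
theorem equiv_of_card (T : Subgroup H) (h : Nat.card H = Nat.card T) : Nonempty (H ≃* T) :=
  ⟨(Subgroup.topEquiv.symm).trans
    (MulEquiv.subgroupCongr (Subgroup.eq_top_of_card_eq T h.symm).symm)⟩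

/-- An injective map onto a group of the same order. -/
theorem equiv_perm_of_card {n : ℕ} {α : Type*} [Finite α] (hα : Nat.card α = n)
    (ψ : H →* Equiv.Perm α) (hψ : Function.Injective ψ) (h : Nat.card H = n.factorial) :
    Nonempty (H ≃* Equiv.Perm (Fin n)) := by
  have hb := (Nat.bijective_iff_injective_and_card ψ).mpr ⟨hψ, by rw [h, Nat.card_perm, hα]⟩
  exact ⟨(MulEquiv.ofBijective ψ hb).trans (Finite.equivFinOfCardEq hα).permCongrHom⟩

variable (T : Subgroup H) [T.Normal] [IsSimpleGroup T]

/-- Order `60`: `H` is `A₅` or `S₅`. -/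
theorem case_sixty (hTna : ¬ IsMulCommutative T) (hC : centralizer (T : Set H) = ⊥)
    (hT : Nat.card T = 60) :
    Nonempty (H ≃* alternatingGroup (Fin 5)) ∨ Nonempty (H ≃* Equiv.Perm (Fin 5)) := by
  have : Fact (Nat.Prime 2) := ⟨Nat.prime_two⟩
  -- five Sylow 2-subgroups
  have hn : Nat.card (Sylow 2 T) = 5 := by
    have hdvd : Nat.card (Sylow 2 T) ∣ 15 := Cfsg.Agent.H30.card_sylow_dvd (a := 2) (m := 15)
      (by rw [hT]; norm_num) (by norm_num)
    have hfac := Cfsg.Agent.H30.two_mul_card_dvd_factorial_sylow hTna 2 (by rw [hT]; norm_num)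
    have hall : ∀ n ∈ Nat.divisors 15, 2 * 60 ∣ Nat.factorial n → n = 5 ∨ n = 15 := by
      intro n hn
      rw [show Nat.divisors 15 = {1, 3, 5, 15} from rfl] at hn
      simp only [Finset.mem_insert, Finset.mem_singleton] at hn
      rcases hn with rfl | rfl | rfl | rfl <;> simp [Nat.factorial]
    rw [hT] at hfac
    refine (hall _ (Nat.mem_divisors.mpr ⟨hdvd, by norm_num⟩) hfac).resolve_right fun h15 => ?_
    let P : Sylow 2 T := default
    have hP : Nat.card (P : Subgroup T) = 2 ^ 2 :=
      Cfsg.Agent.H30.card_sylow_subgroup (a := 2) (m := 15) P (by rw [hT]; norm_num) (by norm_num)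
    have hmul := Cfsg.Agent.H30.card_sylow_mul_normalizer 2 P
    rw [h15, hT] at hmul
    have hN : normalizer ((P : Subgroup T) : Set T) = (P : Subgroup T) :=
      (Subgroup.eq_of_le_of_card_ge Subgroup.le_normalizer (by rw [hP]; omega)).symm
    refine Cfsg.Agent.H30.not_normalizer_le_centralizer hTna 2 (by rw [hT]; norm_num) P ?_
    rw [hN]
    have : IsMulCommutative (P : Subgroup T) :=
      IsPGroup.isMulCommutative_of_card_eq_prime_sq (p := 2) hP
    exact Subgroup.le_centralizer _
  let ψ : H →* Equiv.Perm (Sylow 2 T) :=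
    (MulAction.toPermHom (MulAut T) (Sylow 2 T)).comp (MulAut.conjNormal (H := T))
  have hψ : Function.Injective ψ := by
    rw [← MonoidHom.ker_eq_bot_iff, eq_bot_iff, ← hC]
    have hdisj : Disjoint ψ.ker T := by
      rw [← Subgroup.subgroupOf_eq_bot]
      refine (IsSimpleGroup.eq_bot_or_eq_top_of_normal (ψ.ker.subgroupOf T) inferInstance).resolve_right
        fun htop => ?_
      have h1 : Nat.card (Sylow 2 T) ≤ 1 := by
        rw [← Nat.card_unique (α := Unit)]
        refine Nat.card_le_card_of_injective (fun _ => ()) fun P Q _ => ?_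
        obtain ⟨t, ht⟩ := MulAction.exists_smul_eq T P Q
        have hk : (t : H) ∈ ψ.ker := Subgroup.subgroupOf_eq_top.mp htop t.2
        have h2 : (MulAut.conjNormal (t : H) : MulAut T) • P = P :=
          DFunLike.congr_fun (MonoidHom.mem_ker.mp hk) P
        rw [MulAut.conjNormal_val] at h2
        rw [← ht]
        exact h2.symm
      omega
    intro k hk
    rw [Subgroup.mem_centralizer_iff]
    intro t ht
    exact (Subgroup.commute_of_normal_of_disjoint _ _ inferInstance inferInstance hdisj k t hk ht).eq.symm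
  have hd : Nat.card H ∣ 120 := by
    have := Subgroup.card_dvd_of_injective ψ hψ
    rwa [Nat.card_perm, hn] at this
  have h60 : 60 ∣ Nat.card H := hT ▸ Subgroup.card_subgroup_dvd_card T
  have hall : ∀ d ∈ Nat.divisors 120, 60 ∣ d → d = 60 ∨ d = 120 := by decide +kernel
  rcases hall _ (Nat.mem_divisors.mpr ⟨hd, by norm_num⟩) h60 with h | h
  · obtain ⟨e⟩ := equiv_of_card T (h.trans hT.symm)
    obtain ⟨e'⟩ := Cfsg.Agent.S0494.result hT
    exact Or.inl ⟨e.trans e'⟩
  · exact Or.inr (equiv_perm_of_card hn ψ hψ h)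

/-- Order `360`: `H` is `A₆` or `S₆`. -/
theorem case_three_sixty (hTna : ¬ IsMulCommutative T) (hC : centralizer (T : Set H) = ⊥)
    (f : H →* A8) (hf : Function.Injective f) (hT : Nat.card T = 360) :
    Nonempty (H ≃* alternatingGroup (Fin 6)) ∨ Nonempty (H ≃* Equiv.Perm (Fin 6)) := by
  classical
  have : Fact (Nat.Prime 5) := ⟨by norm_num⟩
  let g : H →* Equiv.Perm (Fin 8) := (alternatingGroup (Fin 8)).subtype.comp f
  have hg : Function.Injective g := Subtype.val_injective.comp hf
  let fT : T →* A8 := f.comp T.subtype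
  have hfT : Function.Injective fT := hf.comp T.subtype_injective
  let _ : MulAction T (Fin 8) := MulAction.compHom (Fin 8) (g.comp T.subtype)
  have hsmul : ∀ (t : T) (d : Fin 8), t • d = g (t : H) d := fun _ _ => rfl
  -- orbits have length one or six
  have horb : ∀ d : Fin 8, Nat.card (MulAction.orbit T d) = 1 ∨ Nat.card (MulAction.orbit T d) = 6 := by
    intro d
    have hle : Nat.card (MulAction.orbit T d) ≤ 8 := by
      refine (Nat.card_le_card_of_injective Subtype.val Subtype.val_injective).trans ?_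
      rw [Nat.card_fin]
    have hidx : (MulAction.stabilizer T d).index = Nat.card (MulAction.orbit T d) :=
      (Nat.card_congr (MulAction.orbitEquivQuotientStabilizer T d)).symm
    by_cases htop : MulAction.stabilizer T d = ⊤
    · left; rw [← hidx, htop, Subgroup.index_top]
    right
    have hfac := Cfsg.Agent.H30.two_mul_card_dvd_factorial hTna _ htop
    rw [hT, hidx] at hfac
    have hdv : Nat.card (MulAction.orbit T d) ∣ 360 := hidx ▸ hT ▸ Subgroup.index_dvd_card _
    have hall : ∀ n < 9, 2 * 360 ∣ Nat.factorial n → n ∣ 360 → n = 6 ∨ n = 8 := by decide +kernel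
    refine (hall _ (by omega) hfac hdv).resolve_right fun h8 => ?_
    set St := MulAction.stabilizer T d
    have hSt : Nat.card St = 45 := by
      have h := Subgroup.card_mul_index St
      rw [hidx, h8, hT] at h
      omega
    let P : Sylow 5 St := default
    have hn1 : Nat.card (Sylow 5 St) = 1 := by
      have h9 : Nat.card (Sylow 5 St) ∣ 9 :=
        Cfsg.Agent.H30.card_sylow_dvd (a := 1) (m := 9) (by rw [hSt]; norm_num) (by norm_num)
      have hmod : Nat.card (Sylow 5 St) % 5 = 1 := card_sylow_modEq_one 5 St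
      have hall : ∀ n ∈ Nat.divisors 9, n % 5 = 1 → n = 1 := by decide +kernel
      exact hall _ (Nat.mem_divisors.mpr ⟨h9, by norm_num⟩) hmod
    have hPn : (P : Subgroup St).Normal := by
      have := P.card_eq_index_normalizer
      rw [hn1] at this
      exact Subgroup.normalizer_eq_top_iff.mp (Subgroup.index_eq_one.mp this.symm)
    have hP : Nat.card (P : Subgroup St) = 5 := by
      simpa using Cfsg.Agent.H30.card_sylow_subgroup (a := 1) (m := 9) P (by rw [hSt]; norm_num)
        (by norm_num)
    let i : St →* A8 := fT.comp St.subtype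
    have hi : Function.Injective i := hfT.comp St.subtype_injective
    have h60 : Nat.card (normalizer ((P : Subgroup St) : Set St)) ∣ 60 :=
      (card_normalizer_dvd_map i hi P).trans (card_normalizer_five
        (by rw [← Nat.card_congr (Subgroup.equivMapOfInjective (P : Subgroup St) i hi).toEquiv, hP]))
    rw [Subgroup.normalizer_eq_top_iff.mpr hPn, Subgroup.card_top, hSt] at h60
    norm_num at h60
  -- the moved points
  obtain ⟨d₀, hd₀⟩ : ∃ d₀ : Fin 8, Nat.card (MulAction.orbit T d₀) = 6 := by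
    by_contra hno
    push Not at hno
    apply hTna
    refine ⟨⟨fun a b => ?_⟩⟩
    have hfix : ∀ (t : T), t = 1 := fun t => by
      apply T.subtype_injective
      apply hg
      rw [map_one, map_one]
      refine Equiv.ext fun d => ?_
      have h1 := (horb d).resolve_right (hno d)
      rw [Nat.card_eq_one_iff_unique] at h1
      have := h1.1.elim ⟨t • d, MulAction.mem_orbit d t⟩ ⟨d, MulAction.mem_orbit_self d⟩
      exact congrArg Subtype.val this
    rw [hfix a, hfix b]
  have hfix : ∀ d : Fin 8, d ∉ MulAction.orbit T d₀ → ∀ t : T, t • d = d := by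
    intro d hd t
    rcases horb d with h | h
    · rw [Nat.card_eq_one_iff_unique] at h
      exact congrArg Subtype.val
        (h.1.elim ⟨t • d, MulAction.mem_orbit d t⟩ ⟨d, MulAction.mem_orbit_self d⟩)
    · exfalso
      have hdisj : Disjoint (MulAction.orbit T d₀) (MulAction.orbit T d) := by
        rcases MulAction.orbit.eq_or_disjoint (G := T) d₀ d with h' | h'
        · exact absurd (h' ▸ MulAction.mem_orbit_self d) hd
        · exact h'
      have := Set.ncard_le_ncard (Set.subset_univ (MulAction.orbit T d₀ ∪ MulAction.orbit T d))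
        Set.finite_univ
      rw [Set.ncard_union_eq hdisj (Set.toFinite _) (Set.toFinite _), Set.ncard_univ, Nat.card_fin,
        ← Nat.card_coe_set_eq, ← Nat.card_coe_set_eq, h, hd₀] at this
      omega
  have hmove : ∀ d : Fin 8, d ∈ MulAction.orbit T d₀ ↔ ∃ t : T, t • d ≠ d := by
    intro d
    constructor
    · intro hd
      by_contra hno
      push Not at hno
      have h1 : MulAction.orbit T d = {d} := Set.eq_singleton_iff_unique_mem.mpr
        ⟨MulAction.mem_orbit_self d, fun x ⟨t, ht⟩ => ht ▸ hno t⟩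
      rw [← MulAction.orbit_eq_iff.mpr hd, h1] at hd₀
      simp at hd₀
    · rintro ⟨t, ht⟩
      by_contra hd
      exact ht (hfix d hd t)
  have hinv : ∀ (h : H) (d : Fin 8), d ∈ MulAction.orbit T d₀ → g h d ∈ MulAction.orbit T d₀ := by
    intro h d hd
    obtain ⟨t, ht⟩ := (hmove d).mp hd
    refine (hmove _).mpr ⟨MulAut.conjNormal h t, fun e => ht ?_⟩
    rw [hsmul] at e ⊢
    apply (g h).injective
    simpa [MulAut.conjNormal_apply] using e
  set O := MulAction.orbit T d₀ with hO
  let ψ : H →* Equiv.Perm O :=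
    { toFun := fun h => (g h).subtypePerm (fun d => ⟨fun hd => by
          simpa using hinv h⁻¹ _ hd, hinv h d⟩)
      map_one' := by ext x; simp
      map_mul' := fun a b => by
        apply Equiv.ext
        intro x
        apply Subtype.ext
        show g (a * b) (x : Fin 8) = g a (g b (x : Fin 8))
        rw [map_mul]; rfl }
  have hψ : Function.Injective ψ := by
    rw [← MonoidHom.ker_eq_bot_iff, eq_bot_iff, ← hC]
    intro k hk
    rw [Subgroup.mem_centralizer_iff]
    intro t ht
    have hkfix : ∀ d ∈ O, g k d = d := fun d hd => by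
      simpa [ψ] using congrArg Subtype.val (DFunLike.congr_fun (MonoidHom.mem_ker.mp hk) ⟨d, hd⟩)
    apply hg
    refine Equiv.ext fun d => ?_
    rw [map_mul, map_mul, Equiv.Perm.mul_apply, Equiv.Perm.mul_apply]
    by_cases hd : d ∈ O
    · rw [hkfix d hd]
      exact (hkfix _ (MulAction.mem_orbit_of_mem_orbit (⟨t, ht⟩ : T) hd)).symm
    · have h1 : g t d = d := hfix d hd ⟨t, ht⟩
      have h2 : g k d ∉ O := fun h => hd (by simpa using hinv k⁻¹ _ h)
      rw [h1]
      exact hfix _ h2 ⟨t, ht⟩
  have hd : Nat.card H ∣ 720 := by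
    have := Subgroup.card_dvd_of_injective ψ hψ
    rwa [Nat.card_perm, hd₀] at this
  have h360 : 360 ∣ Nat.card H := hT ▸ Subgroup.card_subgroup_dvd_card T
  have hall : ∀ d ∈ Nat.divisors 720, 360 ∣ d → d = 360 ∨ d = 720 := by decide +kernel
  rcases hall _ (Nat.mem_divisors.mpr ⟨hd, by norm_num⟩) h360 with h | h
  · obtain ⟨e⟩ := equiv_of_card T (h.trans hT.symm)
    obtain ⟨e'⟩ := Cfsg.Agent.S0497.result hT
    exact Or.inl ⟨e.trans e'⟩
  · exact Or.inr (equiv_perm_of_card hd₀ ψ hψ h)

/-- Order `168`: `H` is `GL₃(2)`. -/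
theorem case_one_sixty_eight (hTna : ¬ IsMulCommutative T) (f : H →* A8) (hf : Function.Injective f)
    (hT : Nat.card T = 168) : Nonempty (H ≃* GL (Fin 3) (ZMod 2)) := by
  have : Fact (Nat.Prime 7) := ⟨by norm_num⟩
  let P : Sylow 7 T := default
  have hP : Nat.card (P : Subgroup T) = 7 := by
    simpa using Cfsg.Agent.H30.card_sylow_subgroup (a := 1) (m := 24) P (by rw [hT]; norm_num)
      (by norm_num)
  have hn : Nat.card (Sylow 7 T) = 8 := by
    have hall : ∀ j ∈ Nat.divisors 24, j % 7 = 1 → j = 1 ∨ j = 8 := by decide +kernel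
    exact (hall _ (Nat.mem_divisors.2 ⟨Cfsg.Agent.H30.card_sylow_dvd (a := 1) (m := 24)
      (by rw [hT]; norm_num) (by norm_num), by norm_num⟩) (card_sylow_modEq_one 7 T)).resolve_left
      (Cfsg.Agent.H30.card_sylow_ne_one hTna 7 (by rw [hT]; norm_num))
  have hNT : Nat.card (normalizer ((P : Subgroup T) : Set T)) = 21 := by
    have := Cfsg.Agent.H30.card_sylow_mul_normalizer 7 P
    rw [hn, hT] at this
    omega
  set Q : Subgroup H := (P : Subgroup T).map T.subtype with hQ
  set NQ := normalizer (Q : Set H) with hNQ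
  have hfrat : NQ ⊔ T = ⊤ := Sylow.normalizer_sup_eq_top P
  have hNd : Nat.card NQ ∣ 21 := by
    refine (card_normalizer_dvd_map f hf Q).trans (card_normalizer_seven ?_)
    rw [← Nat.card_congr (Subgroup.equivMapOfInjective Q f hf).toEquiv, hQ,
      ← Nat.card_congr (Subgroup.equivMapOfInjective (P : Subgroup T) T.subtype
        T.subtype_injective).toEquiv, hP]
  have h21 : 21 ∣ Nat.card ↥(NQ ⊓ T) := by
    rw [← hNT, Nat.card_congr (Subgroup.equivMapOfInjective
      (normalizer ((P : Subgroup T) : Set T)) T.subtype T.subtype_injective).toEquiv]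
    exact Subgroup.card_dvd_of_le (le_inf (Subgroup.le_normalizer_map T.subtype)
      (Subgroup.map_subtype_le _))
  have hle : Nat.card ↥(NQ ⊓ T) ∣ Nat.card NQ := Subgroup.card_dvd_of_le inf_le_left
  have hmul := Cfsg.Agent.H32.card_sup_mul_card_inf NQ T
  rw [hfrat, Subgroup.card_top, hT, Nat.dvd_antisymm (hle.trans hNd) h21,
    Nat.dvd_antisymm hNd (h21.trans hle)] at hmul
  obtain ⟨e⟩ := equiv_of_card T (by omega)
  have hcard7 : Fintype.card (ZMod 7) = 7 := ZMod.card 7
  obtain ⟨e₁⟩ := Cfsg.Agent.S0495.result hT (F := ZMod 7) hcard7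
  have := gl_three_two.1
  obtain ⟨e₂⟩ := Cfsg.Agent.S0495.result (G := GL (Fin 3) (ZMod 2)) gl_three_two.2 (F := ZMod 7) hcard7
  exact ⟨e.trans (e₁.trans e₂.symm)⟩

/-- Order `2520` or `20160`: `H` is `A₇` or `A₈`. -/
theorem case_big (f : H →* A8) (hf : Function.Injective f)
    (hT : Nat.card T = 2520 ∨ Nat.card T = 20160) :
    Nonempty (H ≃* alternatingGroup (Fin 7)) ∨ Nonempty (H ≃* alternatingGroup (Fin 8)) := by
  have hd : Nat.card H ∣ 20160 := card_A8 ▸ Subgroup.card_dvd_of_injective f hf
  have hbig : 2520 ∣ Nat.card H := by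
    rcases hT with h | h
    · exact h ▸ Subgroup.card_subgroup_dvd_card T
    · exact (show 2520 ∣ 20160 by norm_num).trans (h ▸ Subgroup.card_subgroup_dvd_card T)
  by_cases htop : f.range = ⊤
  · exact Or.inr ⟨(MonoidHom.ofInjective hf).trans
      ((MulEquiv.subgroupCongr htop).trans Subgroup.topEquiv)⟩
  left
  have h8 := eight_le_index htop
  have h := Subgroup.index_mul_card f.range
  rw [← Nat.card_congr (MonoidHom.ofInjective hf).toEquiv, card_A8] at h
  have hH : Nat.card H = 2520 := by
    obtain ⟨k, hk⟩ := hbig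
    rcases Nat.lt_or_ge k 2 with hk2 | hk2
    · interval_cases k
      · exact absurd hk Nat.card_pos.ne'
      · rw [hk]
    · exfalso
      have : 8 * (2520 * 2) ≤ f.range.index * Nat.card H := Nat.mul_le_mul h8 (by omega)
      omega
  have hT' : Nat.card T = Nat.card H := by
    have := Nat.le_of_dvd Nat.card_pos (Subgroup.card_subgroup_dvd_card T)
    omega
  obtain ⟨e⟩ := equiv_of_card T hT'.symm
  let g : T →* Equiv.Perm (Fin 8) := ((alternatingGroup (Fin 8)).subtype.comp f).comp T.subtype
  obtain ⟨e'⟩ := Cfsg.Agent.H1.nonempty_equiv_alternating_of_simple (n := 7) ‹IsSimpleGroup T› g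
    ((Subtype.val_injective.comp hf).comp T.subtype_injective) (by norm_num) (Fintype.card_fin 8)
    (by rw [hT', hH]; rfl)
  exact ⟨e.trans e'⟩

omit [T.Normal] [IsSimpleGroup T] in
/-- The classification. -/
theorem classification (f : H →* A8) (hf : Function.Injective f) [Nontrivial H]
    (hO : Cfsg.pPrimeCore 2 H = ⊥) (hO2 : Cfsg.pCore 2 H = ⊥) :
    (∃ n : ℕ, 5 ≤ n ∧ n ≤ 8 ∧ Nonempty (H ≃* alternatingGroup (Fin n))) ∨
      Nonempty (H ≃* Equiv.Perm (Fin 5)) ∨ Nonempty (H ≃* Equiv.Perm (Fin 6)) ∨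
        Nonempty (H ≃* GL (Fin 3) (ZMod 2)) := by
  obtain ⟨U, hUn, hUs, hUna, hUC⟩ := exists_simple_normal_centralizer f hf hO hO2
  rcases card_simple hUna (f.comp U.subtype) (hf.comp U.subtype_injective) with h | h | h | h | h
  · rcases case_sixty U hUna hUC h with h' | h'
    · exact Or.inl ⟨5, le_rfl, by norm_num, h'⟩
    · exact Or.inr (Or.inl h')
  · exact Or.inr (Or.inr (Or.inr (case_one_sixty_eight U hUna f hf h)))
  · rcases case_three_sixty U hUna hUC f hf h with h' | h'
    · exact Or.inl ⟨6, by norm_num, by norm_num, h'⟩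
    · exact Or.inr (Or.inr (Or.inl h'))
  all_goals
    rcases case_big U f hf (by omega) with h' | h'
    · exact Or.inl ⟨7, by norm_num, by norm_num, h'⟩
    · exact Or.inl ⟨8, by norm_num, le_rfl, h'⟩

end Cfsg.Agent.H50.AltEight
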